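import Cfsg.Agent.Lib.OffenderDegen.Lead

/-!
Conjugating a square-zero subspace by `1 + t n`, `n * n = 0`, and passing to leading coefficients.
-/

set_option autoImplicit false

namespace CfsgLib.OffenderDegen

open Polynomial

variable {R : Type*} [Ring R]

/-- `1 + n X`. -/
noncomputable def line (n : R) : R[X] := 1 + C n * X

theorem line_mul_neg {n : R} (hn : n * n = 0) : line n * line (-n) = 1 := by
  have h : C n * X * (C n * X) = 0 := by
    rw [mul_assoc, ← mul_assoc X, (commute_X (C n)).eq, ← mul_assoc, ← mul_assoc, ← C_mul, hn, map_zero,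
      zero_mul, zero_mul]
  simp only [line, map_neg, neg_mul, mul_add, add_mul, mul_one, one_mul, mul_neg, h]
  abel

theorem neg_mul_line {n : R} (hn : n * n = 0) : line (-n) * line n = 1 := by
  have := line_mul_neg (n := -n) (by simpa using hn)
  rwa [neg_neg] at this

theorem natDegree_line (n : R) : (line n).natDegree ≤ 1 := by
  refine natDegree_add_le_of_degree_le (by simp) ?_
  exact natDegree_mul_le.trans (by simpa using natDegree_X_le)

variable {F : Type*} [Field F] [Algebra F R]

theorem C_mul_mem {a : R} {𝔞 𝔟 : Submodule F R} (h : ∀ m ∈ 𝔞, a * m ∈ 𝔟) {f : R[X]} (hf : f ∈ coeffPoly 𝔞) :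
    C a * f ∈ coeffPoly 𝔟 := fun k => by rw [coeff_C_mul]; exact h _ (hf k)

/-- The leading coefficients of the conjugates by `1 + t n` lie in the span of three conjugates. -/
theorem lead_le {n : R} {𝔞 M : Submodule F R} (h1 : 𝔞 ≤ M) (h2 : ∀ m ∈ 𝔞, n * m - m * n ∈ M)
    (h3 : ∀ m ∈ 𝔞, n * m * n ∈ M) : lead (line n) (line (-n)) 𝔞 ≤ M := by
  rintro x ⟨f, hf, d, -, rfl⟩
  have e : line n * f * line (-n) = f + (C n * f - f * C n) * X - C n * f * C n * X * X := by
    have hX : ∀ g : R[X], X * g = g * X := fun g => (commute_X g).eq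
    simp only [line, map_neg, neg_mul, mul_add, add_mul, mul_one, one_mul, mul_neg, sub_mul]
    rw [show C n * X * f * (C n * X) = C n * f * C n * X * X by
      rw [mul_assoc (C n) X f, hX f, ← mul_assoc (C n) f X, mul_assoc (C n * f) X (C n * X),
        ← mul_assoc X (C n) X, hX (C n), ← mul_assoc, ← mul_assoc]]
    rw [show C n * X * f = C n * f * X by rw [mul_assoc, hX f, ← mul_assoc],
      show f * (C n * X) = f * C n * X by rw [mul_assoc]]
    abel
  have hm : line n * f * line (-n) ∈ coeffPoly M := by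
    rw [e]
    refine sub_mem (add_mem (fun k => h1 (hf k)) (mul_X_mem fun k => ?_)) (mul_X_mem (mul_X_mem fun k => ?_))
    · rw [coeff_sub, coeff_C_mul, coeff_mul_C]; exact h2 _ (hf k)
    · rw [coeff_mul_C, coeff_C_mul]; exact h3 _ (hf k)
  exact hm d

/-- If `g` normalises all conjugates of `𝔞` by `1 + t n`, `t < 5`, it normalises the leading coefficients. -/
theorem conj_mem_lead {n g g' : R} (hn : n * n = 0) {𝔞 : Submodule F R}
    (h5 : ∀ s t : ℕ, s < 5 → t < 5 → (s : F) = t → s = t)
    (h : ∀ t : ℕ, ∀ m ∈ 𝔞,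
      (1 - (t : R) * n) * g * (1 + (t : R) * n) * m * ((1 - (t : R) * n) * g' * (1 + (t : R) * n)) ∈ 𝔞)
    {x : R} (hx : x ∈ lead (line n) (line (-n)) 𝔞) : g * x * g' ∈ lead (line n) (line (-n)) 𝔞 := by
  classical
  obtain ⟨f, hf, d, hd, rfl⟩ := hx
  set P : R → R[X] := fun m => line (-n) * C g * line n * C m * (line (-n) * C g' * line n) with hP
  have hPm : ∀ m ∈ 𝔞, P m ∈ coeffPoly 𝔞 := by
    intro m hm k
    have hdeg : (P m).natDegree ≤ 4 := by
      have a1 := natDegree_line n
      have a2 := natDegree_line (-n)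
      have q1 : (line (-n) * C g * line n * C m).natDegree ≤ 2 :=
        natDegree_mul_le.trans (by
          rw [natDegree_C, add_zero]
          exact natDegree_mul_le.trans (add_le_add (natDegree_mul_le.trans (by rw [natDegree_C, add_zero]; exact a2)) a1))
      have q2 : (line (-n) * C g' * line n).natDegree ≤ 2 :=
        natDegree_mul_le.trans (add_le_add (natDegree_mul_le.trans (by rw [natDegree_C, add_zero]; exact a2)) a1)
      exact natDegree_mul_le.trans (add_le_add q1 q2)
    rcases lt_or_ge 4 k with hk | hk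
    · rw [coeff_eq_zero_of_natDegree_lt (lt_of_le_of_lt hdeg hk)]; exact zero_mem _
    rw [← Submodule.Quotient.mk_eq_zero, ← Module.forall_dual_apply_eq_zero_iff F]
    intro φ
    set L : R →ₗ[F] F := φ ∘ₗ 𝔞.mkQ with hL
    set q : F[X] := ∑ i ∈ Finset.range 5, C (L ((P m).coeff i)) * X ^ i with hq
    have hev : ∀ t : Fin 5, q.eval ((t : ℕ) : F) = 0 := by
      intro t
      let ev := eval₂RingHom' (RingHom.id R) ((t : ℕ) : R) fun a => (Nat.cast_commute (t : ℕ) a).symm
      have hC : ∀ a : R, ev (C a) = a := fun a => by simp [ev]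
      have hX : ev X = ((t : ℕ) : R) := by simp [ev]
      have e1 : ev (P m) = (1 - ((t : ℕ) : R) * n) * g * (1 + ((t : ℕ) : R) * n) * m *
          ((1 - ((t : ℕ) : R) * n) * g' * (1 + ((t : ℕ) : R) * n)) := by
        simp only [hP, line, map_mul, map_add, map_neg, map_one, hC, hX]
        rw [← (Nat.cast_commute (t : ℕ) n).eq, neg_mul, ← (Nat.cast_commute (t : ℕ) n).eq, ← sub_eq_add_neg]
      have e2 : ev (P m) = ∑ i ∈ Finset.range 5, ((t : ℕ) : F) ^ i • (P m).coeff i := by
        refine (eval₂_eq_sum_range' (RingHom.id R) (by omega : (P m).natDegree < 5) _).trans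
          (Finset.sum_congr rfl fun i _ => ?_)
        rw [RingHom.id_apply, Algebra.smul_def, map_pow, map_natCast, (((Nat.cast_commute (t : ℕ) _).pow_left i)).eq]
      have e3 : L (ev (P m)) = 0 := by
        rw [e1, hL, LinearMap.comp_apply, Submodule.mkQ_apply,
          (Submodule.Quotient.mk_eq_zero 𝔞).mpr (h t m hm), map_zero]
      rw [e2, map_sum] at e3
      rw [hq, eval_finset_sum, ← e3]
      refine Finset.sum_congr rfl fun i _ => ?_
      rw [eval_mul, eval_C, eval_pow, eval_X, map_smul, smul_eq_mul, mul_comm]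
    have hq4 : q.natDegree ≤ 4 := natDegree_sum_le_of_forall_le _ _ fun i hi =>
      (natDegree_C_mul_X_pow_le _ _).trans (Nat.le_of_lt_succ (Finset.mem_range.mp hi))
    have hq0 : q = 0 := eq_zero_of_natDegree_lt_card_of_eval_eq_zero q
      (f := fun t : Fin 5 => ((t : ℕ) : F)) (fun a b hab => Fin.ext (h5 _ _ a.2 b.2 hab)) hev
      (by rw [Fintype.card_fin]; omega)
    have := congrArg (fun r : F[X] => r.coeff k) hq0
    simp only [hq, finset_sum_coeff, coeff_C_mul_X_pow, coeff_zero] at this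
    rwa [Finset.sum_ite_eq (Finset.range 5) k, if_pos (Finset.mem_range.mpr (by omega))] at this
  have hconj : line (-n) * C g * line n * f * (line (-n) * C g' * line n) ∈ coeffPoly 𝔞 := by
    rw [f.as_sum_range_C_mul_X_pow, Finset.mul_sum, Finset.sum_mul]
    refine sum_mem fun i _ => ?_
    rw [twist_shift]
    exact mul_X_pow_mem (hPm _ (hf i)) i
  refine ⟨_, hconj, d, ?_, ?_⟩ <;>
    rw [show line n * (line (-n) * C g * line n * f * (line (-n) * C g' * line n)) * line (-n)
      = C g * (line n * f * line (-n)) * C g' by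
        simp only [mul_assoc]
        rw [line_mul_neg hn, mul_one, ← mul_assoc (line n) (line (-n)), line_mul_neg hn, one_mul]]
  · exact natDegree_mul_le.trans (by
      rw [natDegree_C, add_zero]
      exact natDegree_mul_le.trans (by rw [natDegree_C, zero_add]; exact hd))
  · rw [coeff_mul_C, coeff_C_mul]

theorem intCast_poly_coeff (c : ℤ) (i k : ℕ) :
    ∃ z : ℤ, ((X + C (c : R)) ^ i).coeff k = (z : R) := by
  refine ⟨(((X + C c) ^ i : ℤ[X])).coeff k, ?_⟩
  have : ((X + C (c : R)) ^ i : R[X]) = ((X + C c) ^ i : ℤ[X]).map (Int.castRingHom R) := by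
    rw [Polynomial.map_pow, Polynomial.map_add, Polynomial.map_X, Polynomial.map_C, eq_intCast]
  rw [this, coeff_map, eq_intCast]

/-- Substituting `X + c` for `X`. -/
noncomputable def shift (c : ℤ) : R[X] →+* R[X] :=
  eval₂RingHom' (C : R →+* R[X]) (X + C (c : R)) fun a => by
    have h1 : Commute (C a) (X : R[X]) := (commute_X (C a)).symm
    have h2 : Commute (C a) (C (c : R)) := (Int.commute_cast a c).map C
    exact h1.add_right h2

theorem shift_C (c : ℤ) (a : R) : shift c (C a) = C a := by simp [shift]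

theorem shift_X (c : ℤ) : shift c (X : R[X]) = X + C (c : R) := by simp [shift]

theorem shift_eq_sum (c : ℤ) (f : R[X]) {d : ℕ} (hd : f.natDegree ≤ d) :
    shift c f = ∑ i ∈ Finset.range (d + 1), C (f.coeff i) * (X + C (c : R)) ^ i :=
  eval₂_eq_sum_range' C (Nat.lt_succ_of_le hd) _

theorem shift_shift (f : R[X]) : shift 1 (shift (-1) f) = f := by
  conv_rhs => rw [f.as_sum_range_C_mul_X_pow]
  rw [shift_eq_sum (-1) f le_rfl, map_sum]
  refine Finset.sum_congr rfl fun i _ => ?_
  simp only [map_mul, map_pow, map_add, shift_C, shift_X]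
  simp [add_assoc]

theorem shift_shift' (f : R[X]) : shift (-1) (shift 1 f) = f := by
  conv_rhs => rw [f.as_sum_range_C_mul_X_pow]
  rw [shift_eq_sum 1 f le_rfl, map_sum]
  refine Finset.sum_congr rfl fun i _ => ?_
  simp only [map_mul, map_pow, map_add, shift_C, shift_X]
  simp [add_assoc]

theorem shift_mem {𝔞 : Submodule F R} (c : ℤ) {f : R[X]} (hf : f ∈ coeffPoly 𝔞) : shift c f ∈ coeffPoly 𝔞 := by
  intro k
  rw [shift_eq_sum c f le_rfl, finset_sum_coeff]
  refine sum_mem fun i _ => ?_
  obtain ⟨z, hz⟩ := intCast_poly_coeff (R := R) c i k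
  rw [coeff_C_mul, hz, ← zsmul_eq_mul']
  exact zsmul_mem (hf i) z

theorem shift_top (c : ℤ) {f : R[X]} {d : ℕ} (hd : f.natDegree ≤ d) :
    (shift c f).natDegree ≤ d ∧ (shift c f).coeff d = f.coeff d := by
  have h1 : (X + C (c : R)).natDegree ≤ 1 :=
    natDegree_add_le_of_degree_le natDegree_X_le (by simp)
  have hpow : ∀ i, ((X + C (c : R)) ^ i).natDegree ≤ i := fun i =>
    natDegree_pow_le.trans ((Nat.mul_le_mul_left i h1).trans (mul_one i).le)
  rw [shift_eq_sum c f hd]
  refine ⟨natDegree_sum_le_of_forall_le _ _ fun i hi =>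
    (natDegree_C_mul_le _ _).trans ((hpow i).trans (Nat.le_of_lt_succ (Finset.mem_range.mp hi))), ?_⟩
  rw [finset_sum_coeff, Finset.sum_eq_single d]
  · have h3 := coeff_pow_of_natDegree_le (m := d) h1
    rw [mul_one] at h3
    rw [coeff_C_mul, h3, coeff_add, coeff_X_one, coeff_C_ne_zero one_ne_zero, add_zero, one_pow, mul_one]
  · intro i hi hid
    rw [coeff_C_mul, coeff_eq_zero_of_natDegree_lt (lt_of_le_of_lt (hpow i) (by
      have := Finset.mem_range.mp hi; omega)), mul_zero]
  · intro h; exact absurd (Finset.mem_range.mpr (Nat.lt_succ_self d)) h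

/-- The leading coefficients are invariant under `1 + n`. -/
theorem conj_self_mem_lead {n : R} (hn : n * n = 0) {𝔞 : Submodule F R} {x : R}
    (hx : x ∈ lead (line n) (line (-n)) 𝔞) : (1 + n) * x * (1 - n) ∈ lead (line n) (line (-n)) 𝔞 := by
  obtain ⟨f, hf, d, hd, rfl⟩ := hx
  have hCn : C n * C n = 0 := by rw [← C_mul, hn, map_zero]
  have e1 : shift 1 (line n) = C (1 + n) * line n := by
    simp only [line, map_add, map_one, map_mul, shift_C, shift_X, Int.cast_one, add_mul, one_mul, mul_add, mul_one]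
    rw [← mul_assoc, hCn, zero_mul, add_zero]
    abel
  have e2 : shift 1 (line (-n)) = line (-n) * C (1 - n) := by
    simp only [line, map_add, map_one, map_mul, map_neg, map_sub, shift_C, shift_X, Int.cast_one, add_mul, one_mul,
      mul_add, mul_one, mul_sub, neg_mul]
    rw [mul_assoc, (commute_X (C n)).eq, ← mul_assoc, hCn, zero_mul]
    abel
  set h := shift (-1) f
  have hT : shift 1 (line n * h * line (-n)) = C (1 + n) * (line n * f * line (-n)) * C (1 - n) := by
    rw [map_mul, map_mul, e1, e2, shift_shift]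
    simp only [mul_assoc]
  have hdT : (C (1 + n) * (line n * f * line (-n)) * C (1 - n)).natDegree ≤ d :=
    natDegree_mul_le.trans (by
      rw [natDegree_C, add_zero]
      exact natDegree_mul_le.trans (by rw [natDegree_C, zero_add]; exact hd))
  have h2 := shift_top (-1) hdT
  rw [← hT, shift_shift'] at h2
  refine ⟨h, shift_mem _ hf, d, h2.1, ?_⟩
  rw [h2.2, hT, coeff_mul_C, coeff_C_mul]

/-- A square-zero sum of elements of three mutually normalising square-zero spaces is a product. -/
theorem triple {P : Set R} (hmul : ∀ a ∈ P, ∀ b ∈ P, a * b ∈ P) (h : F) (hh : h * 2 = 1)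
    {A B D : Submodule F R} (hA0 : ∀ a ∈ A, ∀ b ∈ A, a * b = 0) (hB0 : ∀ a ∈ B, ∀ b ∈ B, a * b = 0)
    (hD0 : ∀ a ∈ D, ∀ b ∈ D, a * b = 0) (hAP : ∀ a ∈ A, 1 + a ∈ P) (hBP : ∀ a ∈ B, 1 + a ∈ P)
    (hDP : ∀ a ∈ D, 1 + a ∈ P)
    (nAB : ∀ a ∈ A, ∀ b ∈ B, (1 + a) * b * (1 - a) ∈ B) (nBA : ∀ a ∈ B, ∀ b ∈ A, (1 + a) * b * (1 - a) ∈ A)
    (nAD : ∀ a ∈ A, ∀ b ∈ D, (1 + a) * b * (1 - a) ∈ D) (nDA : ∀ a ∈ D, ∀ b ∈ A, (1 + a) * b * (1 - a) ∈ A)
    (nBD : ∀ a ∈ B, ∀ b ∈ D, (1 + a) * b * (1 - a) ∈ D) (nDB : ∀ a ∈ D, ∀ b ∈ B, (1 + a) * b * (1 - a) ∈ B)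
    {x y z : R} (hx : x ∈ A) (hy : y ∈ B) (hz : z ∈ D) (hs : (x + y + z) * (x + y + z) = 0) :
    1 + (x + y + z) ∈ P := by
  have hbr : ∀ (U W : Submodule F R), (∀ a ∈ U, ∀ b ∈ W, (1 + a) * b * (1 - a) ∈ W) → ∀ a ∈ U, ∀ b ∈ W,
      a * b - b * a ∈ W := by
    intro U W hn a ha b hb
    have := W.smul_mem h (sub_mem (hn a ha b hb) (hn (-a) (neg_mem ha) b hb))
    have e : (1 + a) * b * (1 - a) - (1 + -a) * b * (1 - -a) = (2 : F) • (a * b - b * a) := by
      rw [show (2 : F) • (a * b - b * a) = (a * b - b * a) + (a * b - b * a) by rw [two_smul]]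
      noncomm_ring
    rwa [e, smul_smul, hh, one_smul] at this
  have hflip : ∀ (W : Submodule F R) (a b : R), a * b - b * a ∈ W → b * a - a * b ∈ W := fun W a b hab => by
    have := neg_mem hab; rwa [neg_sub] at this
  have k1A : x * y - y * x ∈ A := hflip _ _ _ (hbr B A nBA y hy x hx)
  have k1B : x * y - y * x ∈ B := hbr A B nAB x hx y hy
  have k2A : x * z - z * x ∈ A := hflip _ _ _ (hbr D A nDA z hz x hx)
  have k2D : x * z - z * x ∈ D := hbr A D nAD x hx z hz
  have k3B : y * z - z * y ∈ B := hflip _ _ _ (hbr D B nDB z hz y hy)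
  have k3D : y * z - z * y ∈ D := hbr B D nBD y hy z hz
  have xx := hA0 x hx x hx
  have yy := hB0 y hy y hy
  have zz := hD0 z hz z hz
  have aba : ∀ (U : Submodule F R), (∀ a ∈ U, ∀ b ∈ U, a * b = 0) → ∀ a ∈ U, ∀ b, a * b - b * a ∈ U →
      a * b * a = 0 := by
    intro U hU a ha b hk
    have h1 := hU a ha _ hk
    rw [mul_sub, ← mul_assoc, hU a ha a ha, zero_mul, zero_sub, neg_eq_zero, ← mul_assoc] at h1
    exact h1
  have xyx := aba A hA0 x hx y k1A
  have xzx := aba A hA0 x hx z k2A
  have yxy := aba B hB0 y hy x (hflip _ _ _ k1B)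
  have yzy := aba B hB0 y hy z k3B
  have zxz := aba D hD0 z hz x (hflip _ _ _ k2D)
  have zyz := aba D hD0 z hz y (hflip _ _ _ k3D)
  have s0 : x * y + y * x + x * z + z * x + y * z + z * y = 0 := by
    have : (x + y + z) * (x + y + z) = (x * y + y * x + x * z + z * x + y * z + z * y) + (x * x + y * y + z * z) := by
      noncomm_ring
    rw [hs, xx, yy, zz] at this
    simpa using this.symm
  have sL : ∀ w, w * (x * y) + w * (y * x) + w * (x * z) + w * (z * x) + w * (y * z) + w * (z * y) = 0 := fun w => by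
    have := congrArg (fun r => w * r) s0
    simpa only [mul_add, mul_zero] using this
  have sR : ∀ w, x * y * w + y * x * w + x * z * w + z * x * w + y * z * w + z * y * w = 0 := fun w => by
    have := congrArg (fun r => r * w) s0
    simpa only [add_mul, zero_mul] using this
  have r1 : x * z * y = -(x * y * z) := by
    have := sL x
    simp only [← mul_assoc, xx, xyx, xzx, zero_mul, zero_add, add_zero] at this
    exact eq_neg_of_add_eq_zero_right this
  have r2 : y * x * z = -(x * y * z) := by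
    have := sR z
    simp only [mul_assoc x z z, mul_assoc y z z, zxz, zyz, zz, mul_zero, zero_add, add_zero] at this
    exact eq_neg_of_add_eq_zero_right this
  have r3 : z * x * y = x * y * z := by
    have := sR y
    simp only [mul_assoc x y y, mul_assoc z y y, yxy, yzy, yy, mul_zero, zero_add, add_zero, r1] at this
    exact eq_of_add_neg_eq_zero (by rw [add_comm] at this; exact this)
  have r4 : y * z * x = x * y * z := by
    have := sL y
    simp only [← mul_assoc, yy, yxy, yzy, zero_mul, zero_add, add_zero, r2] at this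
    exact eq_of_add_neg_eq_zero (by rw [add_comm] at this; exact this)
  have r5 : z * y * x = -(x * y * z) := by
    have := sL z
    simp only [← mul_assoc, zz, zxz, zyz, zero_mul, zero_add, add_zero, r3] at this
    exact eq_neg_of_add_eq_zero_right this
  set l1 := h • (x * y - y * x) with hl1
  set l2 := h • (x * z - z * x) with hl2
  set l3 := h • (y * z - z * y) with hl3
  have hL : l1 + l2 + l3 = x * y + x * z + y * z := by
    have e : (x * y - y * x) + (x * z - z * x) + (y * z - z * y) = (2 : F) • (x * y + x * z + y * z) := by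
      rw [two_smul, ← sub_eq_zero]
      rw [show (x * y - y * x) + (x * z - z * x) + (y * z - z * y) - ((x * y + x * z + y * z) + (x * y + x * z + y * z))
        = -(x * y + y * x + x * z + z * x + y * z + z * y) by abel, s0, neg_zero]
    rw [hl1, hl2, hl3, ← smul_add, ← smul_add, e, smul_smul, hh, one_smul]
  have m1A : l1 ∈ A := A.smul_mem h k1A
  have m1B : l1 ∈ B := B.smul_mem h k1B
  have m2A : l2 ∈ A := A.smul_mem h k2A
  have m2D : l2 ∈ D := D.smul_mem h k2D
  have m3B : l3 ∈ B := B.smul_mem h k3B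
  have m3D : l3 ∈ D := D.smul_mem h k3D
  have l11 := hA0 _ m1A _ m1A
  have l12 := hA0 _ m1A _ m2A
  have l21 := hA0 _ m2A _ m1A
  have l22 := hA0 _ m2A _ m2A
  have l13 := hB0 _ m1B _ m3B
  have l31 := hB0 _ m3B _ m1B
  have l33 := hB0 _ m3B _ m3B
  have l23 := hD0 _ m2D _ m3D
  have l32 := hD0 _ m3D _ m2D
  have hlin : (1 - l1) * (1 - l2) * (1 - l3) = 1 - (l1 + l2 + l3) := by
    have : (1 - l1) * (1 - l2) * (1 - l3) =
        1 - (l1 + l2 + l3) + (l1 * l2 + l1 * l3 + l2 * l3) - l1 * l2 * l3 := by noncomm_ring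
    rw [this, l12, l13, l23]; simp
  have hLL : (x * y + x * z + y * z) * (l1 + l2 + l3) = 0 := by
    rw [← hL]; simp only [add_mul, mul_add, l11, l12, l13, l21, l22, l23, l31, l32, l33, add_zero]
  have hsL : (x + y + z) * (l1 + l2 + l3) = x * y * z := by
    have e1 : (x + y + z) * (l1 + l2 + l3) = z * l1 + y * l2 + x * l3 := by
      simp only [add_mul, mul_add, hA0 x hx _ m1A, hA0 x hx _ m2A, hB0 y hy _ m1B, hB0 y hy _ m3B,
        hD0 z hz _ m2D, hD0 z hz _ m3D, zero_add, add_zero]
    have e2 : z * (x * y - y * x) + y * (x * z - z * x) + x * (y * z - z * y) = (2 : F) • (x * y * z) := by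
      simp only [mul_sub, ← mul_assoc, r1, r2, r3, r4, r5, two_smul]
      abel
    rw [e1, hl1, hl2, hl3, mul_smul_comm, mul_smul_comm, mul_smul_comm, ← smul_add, ← smul_add, e2, smul_smul, hh,
      one_smul]
  have h3L : x * y * z * (l1 + l2 + l3) = 0 := by
    have e1 : z * l2 = 0 := hD0 z hz _ m2D
    have e2 : z * l3 = 0 := hD0 z hz _ m3D
    have e3 : x * y * z * l1 = 0 := by
      have : y * z = z * y + (y * z - z * y) := by abel
      rw [mul_assoc x y z, this, mul_add, add_mul, mul_assoc x (z * y), mul_assoc z y, hB0 y hy _ m1B, mul_zero,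
        mul_zero, mul_assoc x, hB0 _ k3B _ m1B, mul_zero, add_zero]
    rw [mul_add, mul_add, e3, mul_assoc (x * y), mul_assoc (x * y), e1, e2, mul_zero, add_zero, add_zero]
  have final : 1 + (x + y + z) = (1 + x) * (1 + y) * (1 + z) * ((1 - l1) * (1 - l2) * (1 - l3)) := by
    rw [hlin, show (1 + x) * (1 + y) * (1 + z) = 1 + (x + y + z) + (x * y + x * z + y * z) + x * y * z by noncomm_ring,
      mul_sub, mul_one]
    simp only [add_mul, one_mul, hsL, hLL, h3L, add_zero]
    rw [hL]; abel
  rw [final]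
  have hneg : ∀ {U : Submodule F R}, (∀ a ∈ U, 1 + a ∈ P) → ∀ l ∈ U, 1 - l ∈ P := fun hU l hl => by
    simpa [sub_eq_add_neg] using hU _ (neg_mem hl)
  exact hmul _ (hmul _ (hmul _ (hAP x hx) _ (hBP y hy)) _ (hDP z hz)) _
    (hmul _ (hmul _ (hneg hAP _ m1A) _ (hneg hAP _ m2A)) _ (hneg hBP _ m3B))

end CfsgLib.OffenderDegen
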