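import Mathlib

/-!
Leading coefficients of a conjugated family of polynomials with coefficients in a subspace.
-/

set_option autoImplicit false

namespace CfsgLib.OffenderDegen

open Polynomial

variable {F : Type*} [Field F] {R : Type*} [Ring R] [Algebra F R]

/-- Polynomials all of whose coefficients lie in `𝔞`. -/
def coeffPoly (𝔞 : Submodule F R) : Submodule F R[X] where
  carrier := {f | ∀ k, f.coeff k ∈ 𝔞}
  add_mem' := fun {f g} hf hg k => by rw [coeff_add]; exact add_mem (hf k) (hg k)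
  zero_mem' := fun k => by rw [coeff_zero]; exact zero_mem _
  smul_mem' := fun c f hf k => by rw [coeff_smul]; exact 𝔞.smul_mem c (hf k)

theorem mem_coeffPoly {𝔞 : Submodule F R} {f : R[X]} : f ∈ coeffPoly 𝔞 ↔ ∀ k, f.coeff k ∈ 𝔞 := Iff.rfl

theorem mul_X_pow_mem {𝔞 : Submodule F R} {f : R[X]} (hf : f ∈ coeffPoly 𝔞) (j : ℕ) :
    f * X ^ j ∈ coeffPoly 𝔞 := by
  intro k
  rw [coeff_mul_X_pow']
  split
  · exact hf _
  · exact zero_mem _

theorem mul_X_mem {𝔞 : Submodule F R} {f : R[X]} (hf : f ∈ coeffPoly 𝔞) : f * X ∈ coeffPoly 𝔞 := by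
  simpa using mul_X_pow_mem hf 1

theorem twist_shift (u f w : R[X]) (j : ℕ) : u * (f * X ^ j) * w = u * f * w * X ^ j := by
  rw [mul_assoc, mul_assoc f, (commute_X_pow w j).eq]
  simp only [mul_assoc]

/-- Leading coefficients of the polynomials `u * f * w`, `f` with coefficients in `𝔞`. -/
def lead (u w : R[X]) (𝔞 : Submodule F R) : Submodule F R where
  carrier := {x | ∃ f ∈ coeffPoly 𝔞, ∃ d, (u * f * w).natDegree ≤ d ∧ (u * f * w).coeff d = x}
  zero_mem' := ⟨0, zero_mem _, 0, by simp, by simp⟩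
  smul_mem' := by
    rintro c x ⟨f, hf, d, hd, rfl⟩
    refine ⟨c • f, (coeffPoly 𝔞).smul_mem c hf, d, ?_, ?_⟩
    · rw [mul_smul_comm, smul_mul_assoc]; exact (natDegree_smul_le _ _).trans hd
    · rw [mul_smul_comm, smul_mul_assoc, coeff_smul]
  add_mem' := by
    rintro x y ⟨f, hf, d, hd, rfl⟩ ⟨g, hg, e, he, rfl⟩
    refine ⟨f * X ^ e + g * X ^ d, add_mem (mul_X_pow_mem hf e) (mul_X_pow_mem hg d), d + e, ?_, ?_⟩
    · rw [mul_add, add_mul, twist_shift, twist_shift]
      refine natDegree_add_le_of_degree_le ?_ ?_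
      · exact (natDegree_mul_le).trans (add_le_add hd (natDegree_X_pow_le e))
      · exact (natDegree_mul_le).trans ((add_le_add he (natDegree_X_pow_le d)).trans (add_comm e d).le)
    · rw [mul_add, add_mul, twist_shift, twist_shift, coeff_add, coeff_mul_X_pow, add_comm d e, coeff_mul_X_pow]

theorem mul_eq_zero_of_lead {u w u₂ w₂ : R[X]} {𝔞 𝔠 : Submodule F R} (hwu : w * u₂ = 1)
    (h0 : ∀ a ∈ 𝔞, ∀ c ∈ 𝔠, a * c = 0) {x y : R} (hx : x ∈ lead u w 𝔞) (hy : y ∈ lead u₂ w₂ 𝔠) : x * y = 0 := by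
  obtain ⟨f, hf, d, hd, rfl⟩ := hx
  obtain ⟨g, hg, e, he, rfl⟩ := hy
  have hfg : f * g = 0 := by
    ext k
    rw [coeff_mul, coeff_zero]
    exact Finset.sum_eq_zero fun ij _ => h0 _ (hf _) _ (hg _)
  have h : u * f * w * (u₂ * g * w₂) = 0 := by
    calc u * f * w * (u₂ * g * w₂) = u * f * (w * u₂) * g * w₂ := by simp only [mul_assoc]
      _ = 0 := by rw [hwu, mul_one, mul_assoc u, hfg, mul_zero, zero_mul]
  rw [← coeff_mul_add_eq_of_natDegree_le hd he, h, coeff_zero]

/-- The space of leading coefficients is at least as large as the space started with. -/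
theorem card_le_lead [Finite R] {u w u' w' : R[X]} (hu : u' * u = 1) (hw : w * w' = 1)
    (hud : u.natDegree ≤ 1) (hwd : w.natDegree ≤ 1) (𝔞 : Submodule F R) :
    Nat.card ↥𝔞 ≤ Nat.card ↥(lead u w 𝔞) := by
  classical
  let E : ℕ → Set R[X] := fun e => {g | (∃ f ∈ coeffPoly 𝔞, g = u * f * w) ∧ ∀ k, e ≤ k → g.coeff k = 0}
  have hup : ∀ e, ∃ ψ : E e → (Fin e → ↥(lead u w 𝔞)), Function.Injective ψ := by
    intro e
    induction e with
    | zero =>
      refine ⟨fun _ => Fin.elim0, fun g₁ g₂ _ => Subtype.ext (Polynomial.ext fun k => ?_)⟩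
      rw [g₁.2.2 k (Nat.zero_le k), g₂.2.2 k (Nat.zero_le k)]
    | succ e ih =>
      obtain ⟨ψ, hψ⟩ := ih
      have hlead : ∀ g : E (e + 1), g.1.coeff e ∈ lead u w 𝔞 := by
        rintro ⟨g, ⟨f, hf, rfl⟩, hg⟩
        exact ⟨f, hf, e, natDegree_le_iff_coeff_eq_zero.mpr fun k hk => hg k hk, rfl⟩
      have hrep : ∀ x : ↥(lead u w 𝔞), ∃ r : R[X], (∃ g : E (e + 1), g.1.coeff e = x.1) →
          r ∈ E (e + 1) ∧ r.coeff e = x.1 := fun x => by
        by_cases hx : ∃ g : E (e + 1), g.1.coeff e = x.1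
        · obtain ⟨g, hg⟩ := hx; exact ⟨g.1, fun _ => ⟨g.2, hg⟩⟩
        · exact ⟨0, fun h => absurd h hx⟩
      choose r hr using hrep
      have hdiff : ∀ g : E (e + 1), g.1 - r ⟨_, hlead g⟩ ∈ E e := by
        intro g
        obtain ⟨⟨⟨f', hf', hrf⟩, hrz⟩, hre⟩ := hr ⟨_, hlead g⟩ ⟨g, rfl⟩
        obtain ⟨f, hf, hgf⟩ := g.2.1
        refine ⟨⟨f - f', sub_mem hf hf', by rw [mul_sub, sub_mul, ← hgf, ← hrf]⟩, fun k hk => ?_⟩
        rcases eq_or_lt_of_le hk with rfl | hk
        · rw [coeff_sub, hre, sub_self]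
        · rw [coeff_sub, g.2.2 k hk, hrz k hk, sub_self]
      refine ⟨fun g => Fin.snoc (ψ ⟨_, hdiff g⟩) ⟨_, hlead g⟩, fun g₁ g₂ h => ?_⟩
      dsimp only at h
      obtain ⟨h1, h2⟩ := Fin.snoc_inj.mp h
      have h3 := congrArg Subtype.val (hψ h1)
      dsimp only at h3
      rw [h2] at h3
      exact Subtype.ext (sub_left_injective h3)
  have key : ∀ d, Nat.card ↥𝔞 ^ d ≤ Nat.card ↥(lead u w 𝔞) ^ (d + 2) := by
    intro d
    obtain ⟨ψ, hψ⟩ := hup (d + 2)
    let f : (Fin d → ↥𝔞) → R[X] := fun a => ∑ i : Fin d, C (a i : R) * X ^ (i : ℕ)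
    have hfc : ∀ a k, (f a).coeff k = ∑ i : Fin d, if k = (i : ℕ) then (a i : R) else 0 := fun a k => by
      simp only [f, finset_sum_coeff, coeff_C_mul_X_pow]
    have hmem : ∀ a, u * f a * w ∈ E (d + 2) := by
      intro a
      refine ⟨⟨f a, fun k => ?_, rfl⟩, fun k hk => ?_⟩
      · rw [hfc]
        refine sum_mem fun i _ => ?_
        split
        · exact (a i).2
        · exact zero_mem _
      · refine coeff_eq_zero_of_natDegree_lt ?_
        rcases Nat.eq_zero_or_pos d with rfl | hd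
        · simp [f]; omega
        have h1 : (f a).natDegree ≤ d - 1 := natDegree_le_iff_coeff_eq_zero.mpr fun m hm => by
          rw [hfc]
          exact Finset.sum_eq_zero fun i _ => if_neg (by omega)
        have h2 : (u * f a * w).natDegree ≤ (u * f a).natDegree + w.natDegree := natDegree_mul_le
        have h3 : (u * f a).natDegree ≤ u.natDegree + (f a).natDegree := natDegree_mul_le
        omega
    have hinj : Function.Injective fun a => (⟨u * f a * w, hmem a⟩ : E (d + 2)) := by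
      intro a b h
      have h' : u * f a * w = u * f b * w := congrArg Subtype.val h
      have h'' : f a = f b := by
        calc f a = u' * (u * f a * w) * w' := by
              simp only [← mul_assoc, hu, one_mul]; rw [mul_assoc, hw, mul_one]
          _ = u' * (u * f b * w) * w' := by rw [h']
          _ = f b := by simp only [← mul_assoc, hu, one_mul]; rw [mul_assoc, hw, mul_one]
      funext i
      have := congrArg (fun q => q.coeff (i : ℕ)) h''
      simp only [hfc] at this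
      refine Subtype.ext ?_
      rwa [Finset.sum_eq_single i (fun j _ hj => if_neg fun e => hj (Fin.ext e.symm)) (fun h => absurd (Finset.mem_univ i) h),
        Finset.sum_eq_single i (fun j _ hj => if_neg fun e => hj (Fin.ext e.symm)) (fun h => absurd (Finset.mem_univ i) h),
        if_pos rfl, if_pos rfl] at this
    have := Nat.card_le_card_of_injective _ (hψ.comp hinj)
    rwa [Nat.card_fun, Nat.card_fun, Nat.card_fin, Nat.card_fin] at this
  set c := Nat.card ↥𝔞
  set l := Nat.card ↥(lead u w 𝔞)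
  by_contra hlt
  have hl : 1 ≤ l := Nat.card_pos
  have hb : ∀ n, l ^ (n + 1) + (n + 1) * l ^ n ≤ (l + 1) ^ (n + 1) := by
    intro n
    induction n with
    | zero => simp
    | succ n ih =>
      have h0 : (l + 1) ^ (n + 1 + 1) = (l + 1) ^ (n + 1) * (l + 1) := pow_succ _ _
      rw [h0]
      refine le_trans ?_ (Nat.mul_le_mul_right (l + 1) ih)
      have e1 : l ^ (n + 1 + 1) = l ^ (n + 1) * l := pow_succ _ _
      have e2 : l ^ (n + 1) = l ^ n * l := pow_succ _ _
      rw [e1, e2]; ring_nf; omega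
  have h1 := (key (l ^ 3 + 1))
  have h2 : (l + 1) ^ (l ^ 3 + 1) ≤ c ^ (l ^ 3 + 1) := Nat.pow_le_pow_left (by omega) _
  have h3 := hb (l ^ 3)
  have h4 : l ^ (l ^ 3 + 1 + 2) = l ^ 3 * l ^ (l ^ 3) := by rw [← pow_add]; ring_nf
  have h5 : 0 < l ^ (l ^ 3) := Nat.pow_pos hl
  rw [h4] at h1
  rw [add_mul, one_mul] at h3
  omega

end CfsgLib.OffenderDegen
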