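import Cfsg.Agent.Lib.OffenderDegen.Conj
import Cfsg.Agent.Lib.PGV.Replacement

/-!
For `p ≥ 5` a `p`-group with an offender has a quadratic offender normal in its normal closure.
-/

set_option autoImplicit false

namespace CfsgLib.OffenderDegen

universe u v

/-- In a finite nilpotent group some element of a normal set outside `closure Y`, `Y ⊆ Q`, normalises it. -/
theorem exists_step {G : Type*} [Group G] [Finite G] [Group.IsNilpotent G] (Q : Set G)
    (hQ : ∀ g : G, ∀ q ∈ Q, g * q * g⁻¹ ∈ Q) (Y : Set G) (hY : Y ⊆ Q)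
    (hne : ¬ Q ⊆ (Subgroup.closure Y : Set G)) :
    ∃ b ∈ Q, b ∉ Subgroup.closure Y ∧ b ∈ Subgroup.normalizer (Subgroup.closure Y : Set G) := by
  obtain ⟨M, hM, hmax⟩ := Set.exists_max_image
    {M : Subgroup G | Subgroup.closure Y ≤ M ∧ ∀ x ∈ Q, x ∈ M → x ∈ Subgroup.closure Y}
    (fun M => Nat.card ↥M) (Set.toFinite _) ⟨Subgroup.closure Y, le_rfl, fun _ _ h => h⟩
  have hMtop : M ≠ ⊤ := fun h => hne fun x hx => hM.2 x hx (h ▸ Subgroup.mem_top x)
  have hlt := Group.normalizerCondition_of_isNilpotent (G := G) M (lt_top_iff_ne_top.mpr hMtop)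
  have : ∃ b ∈ Q, b ∈ Subgroup.normalizer (M : Set G) ∧ b ∉ Subgroup.closure Y := by
    by_contra h
    push_neg at h
    have h1 := hmax _ ⟨hM.1.trans Subgroup.le_normalizer, h⟩
    exact absurd (Subgroup.eq_of_le_of_card_ge hlt.le h1) hlt.ne
  obtain ⟨b, hbQ, hbM, hbY⟩ := this
  refine ⟨b, hbQ, hbY, ?_⟩
  have key : ∀ g ∈ Subgroup.normalizer (M : Set G), ∀ x ∈ Subgroup.closure Y, g * x * g⁻¹ ∈ Subgroup.closure Y := by
    intro g hg x hx
    have h1 : Subgroup.closure Y ≤ (Subgroup.closure Y).comap (MulAut.conj g).toMonoidHom := by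
      rw [Subgroup.closure_le]
      intro y hy
      exact hM.2 _ (hQ g y (hY hy)) ((Subgroup.mem_normalizer_iff.mp hg y).mp (hM.1 (Subgroup.subset_closure hy)))
    exact h1 hx
  refine Subgroup.mem_normalizer_iff.mpr fun x => ⟨key b hbM x, fun hx => ?_⟩
  simpa [mul_assoc] using key b⁻¹ (inv_mem hbM) _ hx

variable {p : ℕ} [Fact p.Prime] {W : Type v} [AddCommGroup W] [Module (ZMod p) W] [Finite W]

/-- Units conjugating a subspace into itself. -/
def stabUnits (𝔞 : Submodule (ZMod p) (Module.End (ZMod p) W)) : Subgroup (Module.End (ZMod p) W)ˣ where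
  carrier := {g | ∀ x ∈ 𝔞, (g : Module.End (ZMod p) W) * x * ↑g⁻¹ ∈ 𝔞}
  one_mem' := fun x hx => by simpa using hx
  mul_mem' := fun {g h} hg hh x hx => by
    have := hg _ (hh x hx)
    simpa [mul_assoc] using this
  inv_mem' := fun {g} hg x hx => by
    haveI := CfsgLib.PGV.finiteEnd (p := p) (V := W)
    let f : ↥𝔞 → ↥𝔞 := fun y => ⟨_, hg y.1 y.2⟩
    have hf : Function.Injective f := fun a b hab => by
      have h1 := congrArg (fun r => (↑g⁻¹ : Module.End (ZMod p) W) * r * ↑g) (congrArg Subtype.val hab)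
      exact Subtype.ext (by simpa [f, mul_assoc] using h1)
    obtain ⟨y, hy⟩ := (Finite.injective_iff_surjective.mp hf) ⟨x, hx⟩
    have h1 : (g : Module.End (ZMod p) W) * y.1 * ↑g⁻¹ = x := congrArg Subtype.val hy
    show (↑g⁻¹ : Module.End (ZMod p) W) * x * ↑(g⁻¹)⁻¹ ∈ 𝔞
    rw [← h1, inv_inv]
    simpa [mul_assoc] using y.2

/-- The annihilator in `W`. -/
def killSpace (𝔞 : Submodule (ZMod p) (Module.End (ZMod p) W)) : Submodule (ZMod p) W where
  carrier := {v | ∀ x ∈ 𝔞, x v = 0}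
  add_mem' := fun {v w} hv hw x hx => by rw [map_add, hv x hx, hw x hx, add_zero]
  zero_mem' := fun x _ => map_zero x
  smul_mem' := fun c v hv x hx => by rw [map_smul, hv x hx, smul_zero]

/-- The right annihilator. -/
def rightAnn (𝔞 : Submodule (ZMod p) (Module.End (ZMod p) W)) : Submodule (ZMod p) (Module.End (ZMod p) W) where
  carrier := {r | ∀ x ∈ 𝔞, x * r = 0}
  add_mem' := fun {v w} hv hw x hx => by rw [mul_add, hv x hx, hw x hx, add_zero]
  zero_mem' := fun x _ => mul_zero x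
  smul_mem' := fun c v hv x hx => by rw [mul_smul_comm, hv x hx, smul_zero]

theorem card_rightAnn (𝔞 : Submodule (ZMod p) (Module.End (ZMod p) W)) :
    Nat.card ↥(rightAnn 𝔞) = Nat.card ↥(killSpace 𝔞) ^ Module.finrank (ZMod p) W := by
  have e : ↥(rightAnn 𝔞) ≃ (W →ₗ[ZMod p] ↥(killSpace 𝔞)) :=
    { toFun := fun r => r.1.codRestrict _ fun v x hx => LinearMap.congr_fun (r.2 x hx) v
      invFun := fun φ => ⟨(killSpace 𝔞).subtype ∘ₗ φ, fun x hx => LinearMap.ext fun v => (φ v).2 x hx⟩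
      left_inv := fun r => Subtype.ext (LinearMap.ext fun v => rfl)
      right_inv := fun φ => LinearMap.ext fun v => Subtype.ext rfl }
  haveI : Finite (W →ₗ[ZMod p] ↥(killSpace 𝔞)) := Finite.of_injective (fun f => ⇑f) DFunLike.coe_injective
  haveI : Module.Finite (ZMod p) W := Module.Finite.of_finite
  rw [Nat.card_congr e, Module.natCard_eq_pow_finrank (K := ZMod p) (V := W →ₗ[ZMod p] ↥(killSpace 𝔞)),
    Module.natCard_eq_pow_finrank (K := ZMod p) (V := ↥(killSpace 𝔞)), Module.finrank_linearMap, ← pow_mul,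
    mul_comm]

/-- Square-zero spaces inside `Γ - 1` that offend. -/
def Cand (Γ : Subgroup (Module.End (ZMod p) W)ˣ) (𝔞 : Submodule (ZMod p) (Module.End (ZMod p) W)) : Prop :=
  𝔞 ≠ ⊥ ∧ (∀ x ∈ 𝔞, ∀ y ∈ 𝔞, x * y = 0) ∧
    (∀ x ∈ 𝔞, ∃ g ∈ Γ, (g : Module.End (ZMod p) W) = 1 + x) ∧
    Nat.card W ≤ Nat.card ↥𝔞 * Nat.card ↥(killSpace 𝔞)

/-- Quadratic elements of `Γ`. -/
def quadElts (Γ : Subgroup (Module.End (ZMod p) W)ˣ) : Set ↥Γ :=
  {g | ((g.1 : Module.End (ZMod p) W) - 1) * ((g.1 : Module.End (ZMod p) W) - 1) = 0}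

/-- Generated by the quadratic elements normalising `𝔞`. -/
def quadStab (Γ : Subgroup (Module.End (ZMod p) W)ˣ) (𝔞 : Submodule (ZMod p) (Module.End (ZMod p) W)) : Subgroup ↥Γ :=
  Subgroup.closure {g | g ∈ quadElts Γ ∧ g.1 ∈ stabUnits 𝔞}

theorem quadElts_conj (Γ : Subgroup (Module.End (ZMod p) W)ˣ) (g q : ↥Γ) (hq : q ∈ quadElts Γ) :
    g * q * g⁻¹ ∈ quadElts Γ := by
  have h : (((g * q * g⁻¹ : ↥Γ) : (Module.End (ZMod p) W)ˣ) : Module.End (ZMod p) W) - 1 =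
      g.1 * ((q.1 : Module.End (ZMod p) W) - 1) * ↑(g.1)⁻¹ := by
    simp [mul_sub, sub_mul]
  show _ * _ = (0 : Module.End (ZMod p) W)
  rw [h]
  calc _ = (g.1 : Module.End (ZMod p) W) * (((q.1 : Module.End (ZMod p) W) - 1) *
          ((q.1 : Module.End (ZMod p) W) - 1)) * ↑(g.1)⁻¹ := by simp [mul_assoc]
    _ = 0 := by rw [hq, mul_zero, zero_mul]

/-- The degeneration step: a candidate with a larger `quadStab`. -/
theorem step (hp5 : 5 ≤ p) {Γ : Subgroup (Module.End (ZMod p) W)ˣ} (hΓ : IsPGroup p ↥Γ)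
    {𝔞 : Submodule (ZMod p) (Module.End (ZMod p) W)} (hc : Cand Γ 𝔞)
    (hne : ¬ ∀ q ∈ quadElts Γ, q.1 ∈ stabUnits 𝔞) :
    ∃ 𝔟, Cand Γ 𝔟 ∧ Nat.card ↥(quadStab Γ 𝔞) < Nat.card ↥(quadStab Γ 𝔟) := by
  classical
  haveI := CfsgLib.PGV.finiteEnd (p := p) (V := W)
  haveI := CfsgLib.PGV.finiteUnitsEnd (p := p) (V := W)
  haveI : Group.IsNilpotent ↥Γ := hΓ.isNilpotent
  obtain ⟨hne0, hsq, hΓa, hoff⟩ := hc
  set S := quadStab Γ 𝔞 with hS
  have hSN : ∀ s ∈ S, s.1 ∈ stabUnits 𝔞 := by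
    intro s hs
    exact (Subgroup.closure_le ((stabUnits 𝔞).comap Γ.subtype)).mpr (fun g hg => hg.2) hs
  obtain ⟨b, hbQ, hbS, hbN⟩ := exists_step (quadElts Γ) (quadElts_conj Γ)
    {g | g ∈ quadElts Γ ∧ g.1 ∈ stabUnits 𝔞} (fun g hg => hg.1) (fun h => hne fun q hq => hSN q (h hq))
  set n : Module.End (ZMod p) W := (b.1 : Module.End (ZMod p) W) - 1 with hn_def
  have hn : n * n = 0 := hbQ
  have hb1 : (b.1 : Module.End (ZMod p) W) = 1 + n := by rw [hn_def]; abel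
  have hb2 : ((b.1⁻¹ : _) : (Module.End (ZMod p) W)ˣ).val = 1 - n := by
    refine (left_inv_eq_right_inv (Units.inv_mul b.1) ?_)
    rw [hb1]; simp [mul_sub, add_mul, hn]
  have hpow : ∀ t : ℕ, ((b.1 ^ t : _) : (Module.End (ZMod p) W)ˣ).val = 1 + (t : Module.End (ZMod p) W) * n ∧
      (((b.1 ^ t)⁻¹ : _) : (Module.End (ZMod p) W)ˣ).val = 1 - (t : Module.End (ZMod p) W) * n := by
    intro t
    induction t with
    | zero => simp
    | succ t ih =>
      constructor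
      · rw [pow_succ, Units.val_mul, ih.1, hb1]
        simp [mul_add, add_mul, mul_assoc, hn]; abel
      · rw [pow_succ', mul_inv_rev, Units.val_mul, ih.2, hb2]
        simp [mul_sub, sub_mul, mul_assoc, hn, Nat.cast_succ, add_mul]; abel
  set 𝔟 := lead (line n) (line (-n)) 𝔞 with h𝔟
  have h5 : ∀ s t : ℕ, s < 5 → t < 5 → (s : ZMod p) = t → s = t := fun s t hs ht h => by
    have h' := (ZMod.natCast_eq_natCast_iff' s t p).mp h
    rwa [Nat.mod_eq_of_lt (by omega), Nat.mod_eq_of_lt (by omega)] at h'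
  have hSb : ∀ s ∈ S, ∀ x ∈ 𝔟, (s.1 : Module.End (ZMod p) W) * x * ↑(s.1)⁻¹ ∈ 𝔟 := by
    intro s hs x hx
    refine conj_mem_lead hn h5 (fun t m hm => ?_) hx
    have h1 : (b ^ t)⁻¹ * s * b ^ t ∈ S := by
      have := (Subgroup.mem_normalizer_iff.mp (inv_mem (pow_mem hbN t)) s).mp hs
      rw [inv_inv] at this; exact this
    have h2 := hSN _ h1 m hm
    have e := hpow t
    simpa [Subgroup.coe_mul, Subgroup.coe_pow, Subgroup.coe_inv, e.1, e.2, mul_assoc] using h2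
  have hbb : ∀ x ∈ 𝔟, (b.1 : Module.End (ZMod p) W) * x * ↑(b.1)⁻¹ ∈ 𝔟 := fun x hx => by
    rw [hb1, hb2]; exact conj_self_mem_lead hn hx
  have hsq' : ∀ x ∈ 𝔟, ∀ y ∈ 𝔟, x * y = 0 := fun x hx y hy =>
    mul_eq_zero_of_lead (neg_mul_line hn) hsq hx hy
  have hcard : Nat.card ↥𝔞 ≤ Nat.card ↥𝔟 := card_le_lead (u' := line (-n)) (w' := line n)
    (neg_mul_line hn) (neg_mul_line hn) (natDegree_line n) (natDegree_line _) 𝔞
  -- the three conjugates
  let conjA : ↥Γ → Submodule (ZMod p) (Module.End (ZMod p) W) := fun c =>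
    𝔞.map ((LinearMap.mulRight (ZMod p) ((c.1⁻¹ : _) : (Module.End (ZMod p) W)ˣ).val).comp
      (LinearMap.mulLeft (ZMod p) (c.1 : Module.End (ZMod p) W)))
  have hmemA : ∀ c m, m ∈ 𝔞 → (c.1 : Module.End (ZMod p) W) * m * ↑(c.1)⁻¹ ∈ conjA c := fun c m hm =>
    ⟨m, hm, rfl⟩
  have helimA : ∀ c x, x ∈ conjA c → ∃ m ∈ 𝔞, (c.1 : Module.End (ZMod p) W) * m * ↑(c.1)⁻¹ = x := fun c x hx => hx
  have haS : ∀ m ∈ 𝔞, ∃ g ∈ S, (g.1 : Module.End (ZMod p) W) = 1 + m := by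
    intro m hm
    obtain ⟨g, hg, hgv⟩ := hΓa m hm
    refine ⟨⟨g, hg⟩, Subgroup.subset_closure ⟨?_, fun x hx => ?_⟩, hgv⟩
    · show (_ - 1) * (_ - 1) = (0 : Module.End (ZMod p) W)
      rw [hgv]; simp [hsq m hm m hm]
    · show (g : Module.End (ZMod p) W) * x * ↑g⁻¹ ∈ 𝔞
      have : (g : Module.End (ZMod p) W) * x = x * g := by
        rw [hgv]; simp [mul_add, add_mul, hsq m hm x hx, hsq x hx m hm]
      rw [this, mul_assoc, Units.mul_inv, mul_one]; exact hx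
  have hcS : ∀ c ∈ Subgroup.normalizer (S : Set ↥Γ), ∀ x ∈ conjA c,
      ∃ g ∈ S, (g.1 : Module.End (ZMod p) W) = 1 + x ∧ ((g.1⁻¹ : _) : (Module.End (ZMod p) W)ˣ).val = 1 - x := by
    intro c hc x hx
    obtain ⟨m, hm, rfl⟩ := helimA c x hx
    obtain ⟨g, hg, hgv⟩ := haS m hm
    refine ⟨c * g * c⁻¹, (Subgroup.mem_normalizer_iff.mp hc g).mp hg, ?_, ?_⟩
    · simp [hgv, mul_add, add_mul]
    · have hginv : ((g.1⁻¹ : _) : (Module.End (ZMod p) W)ˣ).val = 1 - m := by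
        refine left_inv_eq_right_inv (Units.inv_mul g.1) ?_
        rw [hgv]; simp [mul_sub, add_mul, hsq m hm m hm]
      simp [hginv, mul_sub, sub_mul, mul_assoc]
  have hnormA : ∀ c ∈ Subgroup.normalizer (S : Set ↥Γ), ∀ c' ∈ Subgroup.normalizer (S : Set ↥Γ),
      ∀ a ∈ conjA c, ∀ x ∈ conjA c', (1 + a) * x * (1 - a) ∈ conjA c' := by
    intro c hc c' hc' a ha x hx
    obtain ⟨g, hg, hg1, hg2⟩ := hcS c hc a ha
    obtain ⟨m, hm, rfl⟩ := helimA c' x hx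
    have h1 : c'⁻¹ * g * c' ∈ S := by
      simpa using (Subgroup.mem_normalizer_iff.mp (inv_mem hc') g).mp hg
    have h2 := hmemA c' _ (hSN _ h1 m hm)
    rw [← hg1, ← hg2]
    simpa [mul_assoc] using h2
  have hsqA : ∀ c, ∀ x ∈ conjA c, ∀ y ∈ conjA c, x * y = 0 := by
    intro c x hx y hy
    obtain ⟨m, hm, rfl⟩ := helimA c x hx
    obtain ⟨m', hm', rfl⟩ := helimA c y hy
    calc _ = (c.1 : Module.End (ZMod p) W) * (m * m') * ↑(c.1)⁻¹ := by simp [mul_assoc]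
      _ = 0 := by rw [hsq m hm m' hm', mul_zero, zero_mul]
  have hΓb : ∀ x ∈ 𝔟, ∃ g ∈ Γ, (g : Module.End (ZMod p) W) = 1 + x := by
    intro x hx
    have h2 : (2 : ZMod p) ≠ 0 := fun h => by
      have := h5 2 0 (by omega) (by omega) (by simpa using h); omega
    have hle : 𝔟 ≤ conjA 1 ⊔ conjA b ⊔ conjA b⁻¹ := by
      have hplus : ∀ m ∈ 𝔞, (1 + n) * m * (1 - n) ∈ conjA 1 ⊔ conjA b ⊔ conjA b⁻¹ := fun m hm => by
        rw [← hb1, ← hb2]; exact Submodule.mem_sup_left (Submodule.mem_sup_right (hmemA b m hm))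
      have hminus : ∀ m ∈ 𝔞, (1 - n) * m * (1 + n) ∈ conjA 1 ⊔ conjA b ⊔ conjA b⁻¹ := fun m hm => by
        have := hmemA b⁻¹ m hm
        simp only [Subgroup.coe_inv, inv_inv] at this
        rw [hb1, hb2] at this
        exact Submodule.mem_sup_right this
      have hzero : 𝔞 ≤ conjA 1 ⊔ conjA b ⊔ conjA b⁻¹ := fun m hm =>
        Submodule.mem_sup_left (Submodule.mem_sup_left (by simpa using hmemA 1 m hm))
      refine lead_le hzero (fun m hm => ?_) (fun m hm => ?_)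
      · have := Submodule.smul_mem _ (2 : ZMod p)⁻¹ (sub_mem (hplus m hm) (hminus m hm))
        have e : (1 + n) * m * (1 - n) - (1 - n) * m * (1 + n) = (2 : ZMod p) • (n * m - m * n) := by
          rw [two_smul]; noncomm_ring
        rwa [e, smul_smul, inv_mul_cancel₀ h2, one_smul] at this
      · have := Submodule.smul_mem _ (2 : ZMod p)⁻¹ (sub_mem (add_mem (hplus m hm) (hminus m hm))
          (add_mem (hzero hm) (hzero hm)))
        have e : (1 + n) * m * (1 - n) + (1 - n) * m * (1 + n) - (m + m) = (2 : ZMod p) • (-(n * m * n)) := by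
          rw [two_smul]; noncomm_ring
        rw [e, smul_smul, inv_mul_cancel₀ h2, one_smul] at this
        simpa using neg_mem this
    obtain ⟨s, hs, z, hz, rfl⟩ := Submodule.mem_sup.mp (hle hx)
    obtain ⟨x₁, hx₁, y, hy, rfl⟩ := Submodule.mem_sup.mp hs
    have hP := triple (P := {r : Module.End (ZMod p) W | ∃ g ∈ Γ, (g : Module.End (ZMod p) W) = r})
      (fun a ⟨g, hg, ha⟩ c ⟨g', hg', hc⟩ => ⟨g * g', mul_mem hg hg', by rw [Units.val_mul, ha, hc]⟩)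
      (2 : ZMod p)⁻¹ (inv_mul_cancel₀ h2) (hsqA 1) (hsqA b) (hsqA b⁻¹)
      (fun a ha => let ⟨g, _, hg, _⟩ := hcS 1 (one_mem _) a ha; ⟨g.1, g.2, hg⟩)
      (fun a ha => let ⟨g, _, hg, _⟩ := hcS b hbN a ha; ⟨g.1, g.2, hg⟩)
      (fun a ha => let ⟨g, _, hg, _⟩ := hcS b⁻¹ (inv_mem hbN) a ha; ⟨g.1, g.2, hg⟩)
      (hnormA 1 (one_mem _) b hbN) (hnormA b hbN 1 (one_mem _))
      (hnormA 1 (one_mem _) b⁻¹ (inv_mem hbN)) (hnormA b⁻¹ (inv_mem hbN) 1 (one_mem _))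
      (hnormA b hbN b⁻¹ (inv_mem hbN)) (hnormA b⁻¹ (inv_mem hbN) b hbN)
      hx₁ hy hz (hsq' _ hx _ hx)
    exact hP
  have hne' : 𝔟 ≠ ⊥ := fun h => by
    rw [h] at hcard
    haveI : Nontrivial ↥𝔞 := Submodule.nontrivial_iff_ne_bot.mpr hne0
    have := Finite.one_lt_card (α := ↥𝔞)
    simp at hcard
    omega
  have hoff' : Nat.card W ≤ Nat.card ↥𝔟 * Nat.card ↥(killSpace 𝔟) := by
    refine hoff.trans (Nat.mul_le_mul hcard ?_)
    have h1 : lead (line n) 1 (rightAnn 𝔞) ≤ rightAnn 𝔟 := fun r hr x hx =>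
      mul_eq_zero_of_lead (neg_mul_line hn) (fun a ha c hc => (hc : ∀ x ∈ 𝔞, x * c = 0) a ha) hx hr
    have h2 := (card_le_lead (u' := line (-n)) (w' := 1) (neg_mul_line hn) (one_mul 1) (natDegree_line n)
      (by simp) (rightAnn 𝔞)).trans (Nat.card_le_card_of_injective _ (Submodule.inclusion_injective h1))
    rw [card_rightAnn, card_rightAnn] at h2
    refine (Nat.pow_le_pow_iff_left ?_).mp h2
    intro h0
    refine hne0 ((Submodule.eq_bot_iff _).mpr fun x _ => LinearMap.ext fun v => ?_)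
    haveI : Module.Finite (ZMod p) W := Module.Finite.of_finite
    haveI := Module.finrank_zero_iff.mp h0
    exact Subsingleton.elim _ _
  refine ⟨𝔟, ⟨hne', hsq', hΓb, hoff'⟩, ?_⟩
  have hle : S ≤ quadStab Γ 𝔟 := by
    rw [hS, quadStab, Subgroup.closure_le]
    intro g hg
    exact Subgroup.subset_closure ⟨hg.1, fun x hx => hSb g (Subgroup.subset_closure hg) x hx⟩
  refine lt_of_le_of_ne (Nat.card_mono (Set.toFinite _) hle) fun h => hbS ?_
  show b ∈ S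
  rw [Subgroup.eq_of_le_of_card_ge hle h.ge]
  exact Subgroup.subset_closure ⟨hbQ, fun x hx => hbb x hx⟩

/-- The subgroup `1 + 𝔞` inside `Γ`. -/
def unitGroup (Γ : Subgroup (Module.End (ZMod p) W)ˣ) (𝔞 : Submodule (ZMod p) (Module.End (ZMod p) W))
    (hsq : ∀ x ∈ 𝔞, ∀ y ∈ 𝔞, x * y = 0) : Subgroup (Module.End (ZMod p) W)ˣ where
  carrier := {g | g ∈ Γ ∧ (g : Module.End (ZMod p) W) - 1 ∈ 𝔞}
  one_mem' := ⟨one_mem _, by simp⟩
  mul_mem' := fun {g h} hg hh => ⟨mul_mem hg.1 hh.1, by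
    have : ((g * h : _) : (Module.End (ZMod p) W)ˣ).val - 1 = ((g : Module.End (ZMod p) W) - 1) +
        ((h : Module.End (ZMod p) W) - 1) + ((g : Module.End (ZMod p) W) - 1) * ((h : Module.End (ZMod p) W) - 1) := by
      rw [Units.val_mul]; noncomm_ring
    rw [this, hsq _ hg.2 _ hh.2, add_zero]
    exact add_mem hg.2 hh.2⟩
  inv_mem' := fun {g} hg => ⟨inv_mem hg.1, by
    have : ((g⁻¹ : _) : (Module.End (ZMod p) W)ˣ).val = 1 - ((g : Module.End (ZMod p) W) - 1) := by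
      refine left_inv_eq_right_inv (Units.inv_mul g) ?_
      have := hsq _ hg.2 _ hg.2
      calc (g : Module.End (ZMod p) W) * (1 - ((g : Module.End (ZMod p) W) - 1))
          = 1 - ((g : Module.End (ZMod p) W) - 1) * ((g : Module.End (ZMod p) W) - 1) := by noncomm_ring
        _ = 1 := by rw [this, sub_zero]
    rw [this]
    simpa using neg_mem hg.2⟩

/-- A `p`-group with an offender, `p ≥ 5`, has a quadratic offender normal in its normal closure. -/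
theorem exists_twoSubnormal (hp5 : 5 ≤ p) {Γ : Subgroup (Module.End (ZMod p) W)ˣ} (hΓ : IsPGroup p ↥Γ)
    {E : Subgroup (Module.End (ZMod p) W)ˣ} (hEΓ : E ≤ Γ) (hE : E ≠ ⊥)
    (hcomm : ∀ a ∈ E, ∀ b ∈ E, a * b = b * a) (hexp : ∀ a ∈ E, a ^ p = 1)
    (hoff : Nat.card W ≤ Nat.card ↥E * Nat.card ↥(CfsgLib.PGV.fixSpace E)) :
    ∃ A ≤ Γ, A ≠ ⊥ ∧ (∀ a ∈ A, ∀ b ∈ A, a * b = b * a) ∧ (∀ a ∈ A, a ^ p = 1) ∧
      Nat.card W ≤ Nat.card ↥A * Nat.card ↥(CfsgLib.PGV.fixSpace A) ∧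
      (∀ a ∈ A, ∀ b ∈ A, ((a : Module.End (ZMod p) W) - 1) * ((b : Module.End (ZMod p) W) - 1) = 0) ∧
      ∀ h ∈ Γ, ∀ a ∈ A, ∀ c ∈ A, h * a * h⁻¹ * c * (h * a * h⁻¹)⁻¹ ∈ A := by
  classical
  haveI := CfsgLib.PGV.finiteEnd (p := p) (V := W)
  haveI := CfsgLib.PGV.finiteUnitsEnd (p := p) (V := W)
  obtain ⟨B, hB, hBmax⟩ := Set.exists_max_image {B : Subgroup (Module.End (ZMod p) W)ˣ | B ≤ E ∧ B ≠ ⊥}
    (fun B => Nat.card ↥B * Nat.card ↥(CfsgLib.PGV.fixSpace B)) (Set.toFinite _) ⟨E, le_rfl, hE⟩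
  have hBoff : Nat.card W ≤ Nat.card ↥B * Nat.card ↥(CfsgLib.PGV.fixSpace B) :=
    hoff.trans (hBmax E ⟨le_rfl, hE⟩)
  have hBest : CfsgLib.PGV.Best B := by
    intro D hD
    by_cases h : D = ⊥
    · refine le_trans ?_ hBoff
      rw [h, Subgroup.card_bot, one_mul]
      exact Nat.card_le_card_of_injective _ Subtype.val_injective
    · exact hBmax D ⟨hD.trans hB.1, h⟩
  obtain ⟨C, hCB, hC1, hCbest, hCq⟩ := CfsgLib.PGV.replacement (fun a ha b hb => hcomm a (hB.1 ha) b (hB.1 hb))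
    (fun a ha => hexp a (hB.1 ha)) hBest hB.2
  have hCoff : Nat.card W ≤ Nat.card ↥C * Nat.card ↥(CfsgLib.PGV.fixSpace C) := by
    have := hCbest ⊥ bot_le
    rw [Subgroup.card_bot, one_mul] at this
    refine le_trans ?_ this
    refine le_of_eq (Nat.card_congr ⟨fun v => ⟨v, fun g hg => by rw [Subgroup.mem_bot.mp hg]; simp⟩,
      fun v => v.1, fun v => rfl, fun v => rfl⟩)
  -- the space `C - 1`
  let T : AddSubgroup (Module.End (ZMod p) W) :=
    { carrier := {x | ∃ g ∈ C, (g : Module.End (ZMod p) W) - 1 = x}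
      zero_mem' := ⟨1, one_mem _, by simp⟩
      add_mem' := by
        rintro _ _ ⟨g, hg, rfl⟩ ⟨h, hh, rfl⟩
        refine ⟨g * h, mul_mem hg hh, ?_⟩
        rw [Units.val_mul, ← sub_eq_zero]
        rw [show (g : Module.End (ZMod p) W) * h - 1 - (((g : Module.End (ZMod p) W) - 1) + ((h : Module.End (ZMod p) W) - 1))
          = ((g : Module.End (ZMod p) W) - 1) * ((h : Module.End (ZMod p) W) - 1) by noncomm_ring]
        exact hCq h (hCB hh) g hg
      neg_mem' := by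
        rintro _ ⟨g, hg, rfl⟩
        refine ⟨g⁻¹, inv_mem hg, ?_⟩
        have h := hCq g⁻¹ (hCB (inv_mem hg)) g hg
        simp only [mul_sub, sub_mul, Units.mul_inv, one_mul, mul_one] at h
        rw [← sub_eq_zero, ← neg_eq_zero, ← h]; abel }
  let 𝔞₀ : Submodule (ZMod p) (Module.End (ZMod p) W) := AddSubgroup.toZModSubmodule p T
  have hmem : ∀ x, x ∈ 𝔞₀ ↔ ∃ g ∈ C, (g : Module.End (ZMod p) W) - 1 = x := fun x => Iff.rfl
  have hcardC : ∀ (A : Subgroup (Module.End (ZMod p) W)ˣ) (𝔞 : Submodule (ZMod p) (Module.End (ZMod p) W)),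
      (∀ g ∈ A, (g : Module.End (ZMod p) W) - 1 ∈ 𝔞) → (∀ x ∈ 𝔞, ∃ g ∈ A, (g : Module.End (ZMod p) W) - 1 = x) →
      Nat.card ↥A = Nat.card ↥𝔞 ∧ killSpace 𝔞 = CfsgLib.PGV.fixSpace A := by
    intro A 𝔞 h1 h2
    refine ⟨Nat.card_eq_of_bijective (fun g => ⟨_, h1 g.1 g.2⟩) ⟨fun a b hab => ?_, fun x => ?_⟩, ?_⟩
    · exact Subtype.ext (Units.ext (sub_left_injective (congrArg Subtype.val hab)))
    · obtain ⟨g, hg, he⟩ := h2 x.1 x.2; exact ⟨⟨g, hg⟩, Subtype.ext he⟩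
    · ext v
      constructor
      · intro hv g hg
        have := hv _ (h1 g hg)
        rwa [LinearMap.sub_apply, Module.End.one_apply, sub_eq_zero] at this
      · intro hv x hx
        obtain ⟨g, hg, rfl⟩ := h2 x hx
        rw [LinearMap.sub_apply, Module.End.one_apply, hv g hg, sub_self]
  have hcand : Cand Γ 𝔞₀ := by
    obtain ⟨h1, h2⟩ := hcardC C 𝔞₀ (fun g hg => (hmem _).mpr ⟨g, hg, rfl⟩) (fun x hx => (hmem x).mp hx)
    refine ⟨fun h => hC1 ?_, ?_, ?_, ?_⟩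
    · rw [Subgroup.eq_bot_iff_forall]
      intro g hg
      have := (hmem _).mpr ⟨g, hg, rfl⟩
      rw [h, Submodule.mem_bot, sub_eq_zero] at this
      exact Units.ext this
    · intro x hx y hy
      obtain ⟨g, hg, rfl⟩ := (hmem x).mp hx
      obtain ⟨g', hg', rfl⟩ := (hmem y).mp hy
      exact hCq g' (hCB hg') g hg
    · intro x hx
      obtain ⟨g, hg, rfl⟩ := (hmem x).mp hx
      exact ⟨g, hEΓ (hB.1 (hCB hg)), by abel⟩
    · rw [← h1, h2]; exact hCoff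
  obtain ⟨𝔞, h𝔞, hmax⟩ := Set.exists_max_image {𝔞 | Cand Γ 𝔞} (fun 𝔞 => Nat.card ↥(quadStab Γ 𝔞))
    (Set.toFinite _) ⟨𝔞₀, hcand⟩
  have hall : ∀ q ∈ quadElts Γ, q.1 ∈ stabUnits 𝔞 := by
    by_contra h
    obtain ⟨𝔟, h1, h2⟩ := step hp5 hΓ h𝔞 h
    exact absurd (hmax 𝔟 h1) (not_le.mpr h2)
  obtain ⟨hne0, hsq, hΓa, hoff𝔞⟩ := h𝔞
  have hA1 : ∀ x ∈ 𝔞, ∃ g ∈ unitGroup Γ 𝔞 hsq, (g : Module.End (ZMod p) W) - 1 = x := fun x hx => by
    obtain ⟨g, hg, he⟩ := hΓa x hx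
    have e : (g : Module.End (ZMod p) W) - 1 = x := by rw [he]; abel
    exact ⟨g, ⟨hg, e ▸ hx⟩, e⟩
  obtain ⟨hc1, hc2⟩ := hcardC (unitGroup Γ 𝔞 hsq) 𝔞 (fun g hg => hg.2) hA1
  refine ⟨unitGroup Γ 𝔞 hsq, fun g hg => hg.1, fun h => hne0 ?_, ?_, ?_, ?_, fun a ha b hb => hsq _ ha.2 _ hb.2, ?_⟩
  · rw [Submodule.eq_bot_iff]
    intro x hx
    obtain ⟨g, hg, rfl⟩ := hA1 x hx
    rw [h, Subgroup.mem_bot] at hg
    simp [hg]
  · intro a ha b hb
    refine Units.ext ?_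
    rw [Units.val_mul, Units.val_mul, ← sub_eq_zero,
      show (a : Module.End (ZMod p) W) * b - b * a = ((a : Module.End (ZMod p) W) - 1) * ((b : Module.End (ZMod p) W) - 1)
        - ((b : Module.End (ZMod p) W) - 1) * ((a : Module.End (ZMod p) W) - 1) by noncomm_ring,
      hsq _ ha.2 _ hb.2, hsq _ hb.2 _ ha.2, sub_zero]
  · intro a ha
    refine Units.ext ?_
    have h0 := hsq _ ha.2 _ ha.2
    have key : ∀ k : ℕ, ((a ^ k : _) : (Module.End (ZMod p) W)ˣ).val = 1 + k • ((a : Module.End (ZMod p) W) - 1) := by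
      intro k
      induction k with
      | zero => simp
      | succ k ih =>
        rw [pow_succ, Units.val_mul, ih, add_mul, one_mul, smul_mul_assoc,
          show ((a : Module.End (ZMod p) W) - 1) * (a : Module.End (ZMod p) W) =
            ((a : Module.End (ZMod p) W) - 1) * ((a : Module.End (ZMod p) W) - 1) + ((a : Module.End (ZMod p) W) - 1) by
              noncomm_ring, h0, zero_add, succ_nsmul]
        abel
    rw [key, ← Nat.cast_smul_eq_nsmul (ZMod p), ZMod.natCast_self, zero_smul, add_zero, Units.val_one]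
  · rw [hc1, ← hc2]; exact hoff𝔞
  · intro h hh a ha c hc
    have hq : (⟨h * a * h⁻¹, mul_mem (mul_mem hh ha.1) (inv_mem hh)⟩ : ↥Γ) ∈ quadElts Γ := by
      have := quadElts_conj Γ ⟨h, hh⟩ ⟨a, ha.1⟩ (hsq _ ha.2 _ ha.2)
      exact this
    refine ⟨mul_mem (mul_mem (mul_mem (mul_mem hh ha.1) (inv_mem hh)) hc.1)
      (inv_mem (mul_mem (mul_mem hh ha.1) (inv_mem hh))), ?_⟩
    have := hall _ hq _ hc.2
    rw [mul_sub, sub_mul, mul_one, Units.mul_inv] at this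
    simpa [Units.val_mul] using this

end CfsgLib.OffenderDegen
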